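import Mathlib

/-!
# Algebra for generators modulo an ideal (helper23)
-/

set_option autoImplicit false

namespace Groth.Agent.Lib.Helper23.Nis

open TensorProduct

universe u

/-- If `R → S` is surjective with kernel `K` and `S ⊗_R M` is generated by `N` elements, then there are
`N` elements of `M` generating `M` modulo `K M`. -/
theorem exists_gens_mod_ker {R S : Type u} [CommRing R] [CommRing S] [Algebra R S]
    (hπ : Function.Surjective (algebraMap R S)) (M : Type u) [AddCommGroup M] [Module R M] (N : ℕ)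
    (t : Fin N → S ⊗[R] M) (ht : Submodule.span S (Set.range t) = ⊤) :
    ∃ m : Fin N → M, ∀ x : M, ∃ y ∈ Submodule.span R (Set.range m),
      x - y ∈ (RingHom.ker (algebraMap R S)) • (⊤ : Submodule R M) := by
  classical
  have h1 : ∀ z : S ⊗[R] M, ∃ x : M, z = (1 : S) ⊗ₜ[R] x := by
    intro z
    induction z using TensorProduct.induction_on with
    | zero => exact ⟨0, (TensorProduct.tmul_zero _ _).symm⟩
    | tmul s x =>
      obtain ⟨r, rfl⟩ := hπ s
      refine ⟨r • x, ?_⟩
      rw [← TensorProduct.smul_tmul, Algebra.smul_def, mul_one]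
    | add a b ha hb =>
      obtain ⟨x, rfl⟩ := ha
      obtain ⟨y, rfl⟩ := hb
      exact ⟨x + y, (TensorProduct.tmul_add _ _ _).symm⟩
  choose m hm using fun i => h1 (t i)
  refine ⟨m, ?_⟩
  set K := RingHom.ker (algebraMap R S) with hK
  set P : Submodule R M := Submodule.span R (Set.range m) ⊔ K • (⊤ : Submodule R M) with hP
  suffices hPtop : P = ⊤ by
    intro x
    have hx : x ∈ P := hPtop ▸ Submodule.mem_top
    obtain ⟨y, hy, z, hz, rfl⟩ := Submodule.mem_sup.1 hx
    exact ⟨y, hy, by simpa using hz⟩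
  have hQ : Subsingleton (S ⊗[R] (M ⧸ P)) := by
    let g : S ⊗[R] M →ₗ[S] S ⊗[R] (M ⧸ P) := LinearMap.baseChange S P.mkQ
    have hg0 : ∀ z, g z = 0 := by
      have : ∀ z ∈ Submodule.span S (Set.range t), g z = 0 := by
        intro z hz
        induction hz using Submodule.span_induction with
        | mem z hz =>
          obtain ⟨i, rfl⟩ := hz
          rw [hm i, LinearMap.baseChange_tmul]
          have : P.mkQ (m i) = 0 := by
            rw [Submodule.mkQ_apply, Submodule.Quotient.mk_eq_zero]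
            exact Submodule.mem_sup_left (Submodule.subset_span ⟨i, rfl⟩)
          rw [this, TensorProduct.tmul_zero]
        | zero => exact map_zero _
        | add a b _ _ ha hb => rw [map_add, ha, hb, add_zero]
        | smul s a _ ha => rw [map_smul, ha, smul_zero]
      intro z
      exact this z (ht ▸ Submodule.mem_top)
    have hgs : Function.Surjective g := by
      intro z
      induction z using TensorProduct.induction_on with
      | zero => exact ⟨0, map_zero _⟩
      | tmul s q =>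
        obtain ⟨x, rfl⟩ := P.mkQ_surjective q
        exact ⟨s ⊗ₜ x, LinearMap.baseChange_tmul _ _ _⟩
      | add a b ha hb =>
        obtain ⟨a', rfl⟩ := ha
        obtain ⟨b', rfl⟩ := hb
        exact ⟨a' + b', map_add _ _ _⟩
    refine ⟨fun a b => ?_⟩
    obtain ⟨a', rfl⟩ := hgs a
    obtain ⟨b', rfl⟩ := hgs b
    rw [hg0, hg0]
  -- retraction
  let f₀ : R →ₗ[R] S := Algebra.linearMap R S
  have hf₀ : Function.Surjective f₀ := hπ
  let e : (R ⧸ LinearMap.ker f₀) ≃ₗ[R] S := f₀.quotKerEquivOfSurjective hf₀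
  have hker : LinearMap.ker f₀ ≤ LinearMap.ker (LinearMap.lsmul R (M ⧸ P)) := by
    intro r hr
    rw [LinearMap.mem_ker] at hr ⊢
    have hrK : r ∈ K := by
      rw [hK, RingHom.mem_ker]
      exact hr
    refine LinearMap.ext fun q => ?_
    obtain ⟨x, rfl⟩ := P.mkQ_surjective q
    rw [LinearMap.lsmul_apply, LinearMap.zero_apply, Submodule.mkQ_apply, ← Submodule.Quotient.mk_smul,
      Submodule.Quotient.mk_eq_zero]
    exact Submodule.mem_sup_right (Submodule.smul_mem_smul hrK Submodule.mem_top)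
  let β₁ : (R ⧸ LinearMap.ker f₀) →ₗ[R] (M ⧸ P) →ₗ[R] (M ⧸ P) :=
    (LinearMap.ker f₀).liftQ (LinearMap.lsmul R (M ⧸ P)) hker
  let β : S →ₗ[R] (M ⧸ P) →ₗ[R] (M ⧸ P) := β₁ ∘ₗ e.symm.toLinearMap
  let ρ : S ⊗[R] (M ⧸ P) →ₗ[R] (M ⧸ P) := TensorProduct.lift β
  have hρ : ∀ q : M ⧸ P, ρ ((1 : S) ⊗ₜ q) = q := by
    intro q
    have he : e.symm 1 = Submodule.Quotient.mk 1 := by
      rw [LinearEquiv.symm_apply_eq]
      change (1 : S) = f₀ 1
      simp [f₀]
    change β₁ (e.symm 1) q = q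
    rw [he]
    change (LinearMap.lsmul R (M ⧸ P)) 1 q = q
    rw [LinearMap.lsmul_apply, one_smul]
  rw [← Submodule.Quotient.subsingleton_iff]
  refine ⟨fun a b => ?_⟩
  rw [← hρ a, ← hρ b, Subsingleton.elim ((1 : S) ⊗ₜ[R] a) ((1 : S) ⊗ₜ[R] b)]

/-- The inductive step on supports (Nakayama). -/
theorem support_inter_eq_empty_step {R : Type u} [CommRing R] {M : Type u} [AddCommGroup M]
    [Module R M] [Module.Finite R M] (S₀ S₁ : Submodule R M) (h01 : S₀ ≤ S₁)
    (Z : Set (PrimeSpectrum R)) (J : Ideal R)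
    (hJ : ∀ p ∈ Module.support R (M ⧸ S₀) ∩ Z, J ≤ p.asIdeal)
    (hgen : ∀ x : M, ∃ y ∈ S₁, x - y ∈ J • (⊤ : Submodule R M)) :
    Module.support R (M ⧸ S₁) ∩ Z = ∅ := by
  rw [Set.eq_empty_iff_forall_notMem]
  rintro p ⟨hp1, hpZ⟩
  have hp0 : p ∈ Module.support R (M ⧸ S₀) := by
    have hsurj : Function.Surjective (Submodule.mapQ S₀ S₁ LinearMap.id h01) := by
      intro q
      obtain ⟨x, rfl⟩ := S₁.mkQ_surjective q
      exact ⟨S₀.mkQ x, rfl⟩
    exact Module.support_subset_of_surjective _ hsurj hp1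
  have hJp := hJ p ⟨hp0, hpZ⟩
  have hle : (⊤ : Submodule R (M ⧸ S₁)) ≤ J • (⊤ : Submodule R (M ⧸ S₁)) := by
    intro q _
    obtain ⟨x, rfl⟩ := S₁.mkQ_surjective q
    obtain ⟨y, hy, hxy⟩ := hgen x
    have h1 : S₁.mkQ x = S₁.mkQ (x - y) := by
      rw [map_sub, (Submodule.mkQ_apply S₁ y), (Submodule.Quotient.mk_eq_zero S₁).2 hy, sub_zero]
    rw [h1]
    have h2 : S₁.mkQ (x - y) ∈ Submodule.map S₁.mkQ (J • (⊤ : Submodule R M)) :=
      Submodule.mem_map_of_mem hxy
    rw [Submodule.map_smul''] at h2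
    exact Submodule.smul_mono le_rfl le_top h2
  obtain ⟨r, hr1, hr0⟩ := Submodule.exists_sub_one_mem_and_smul_eq_zero_of_fg_of_le_smul J
    (⊤ : Submodule R (M ⧸ S₁)) Module.Finite.fg_top hle
  have hrann : r ∈ Module.annihilator R (M ⧸ S₁) :=
    Module.mem_annihilator.2 fun q => hr0 q trivial
  have hrp : r ∈ p.asIdeal := (Module.mem_support_iff_of_finite.1 hp1) hrann
  have h1p : (1 : R) ∈ p.asIdeal := by
    have := p.asIdeal.sub_mem hrp (hJp hr1)
    simpa using this
  exact p.isPrime.ne_top ((Ideal.eq_top_iff_one _).2 h1p)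

end Groth.Agent.Lib.Helper23.Nis
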