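import Mathlib
import Groth.Prelude.Def_W4c5algebraiztannakaNis
import Groth.Prelude.Def_FlatMod2
import Groth.Agent.S2265
import Groth.Agent.Lib.Helper16.RS6
import Groth.Agent.Lib.Helper23.Nis.Alg

/-!
# Generators from a section (helper23)

If `φ : O_U^N ⟶ f^* M~` is an epimorphism and `σ : Spec S ⟶ U` is a morphism with
`σ ≫ f = Spec.map π`, then `S ⊗_R M` is generated by `N` elements.
-/

set_option autoImplicit false

namespace Groth.Agent.Lib.Helper23.Nis

open CategoryTheory CategoryTheory.Limits AlgebraicGeometry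

universe u

/-- the free module of rank `N` on `Spec S` is the tilde of a free module. -/
noncomputable def freeModTildeIso (S : CommRingCat.{u}) (N : ℕ) :
    (tilde.functor S).obj (ModuleCat.of S (ULift.{u} (Fin N) →₀ S)) ≅ FlatMod.freeMod (Spec S) N :=
  tildeFinsupp (R := S) (ULift.{u} (Fin N)) ≪≫
    (Sigma.whiskerEquiv (f := fun _ : ULift.{u} (Fin N) => SheafOfModules.unit (Spec S).ringCatSheaf)
      (g := fun _ : Fin N => Coh.structureModule (Spec S))
      Equiv.ulift (fun _ => Iso.refl _))

theorem exists_gens_of_section {R S : CommRingCat.{u}} (M : ModuleCat.{u} R) {U : Scheme.{u}}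
    (f : U ⟶ Spec R) (N : ℕ)
    (φ : FlatMod.freeMod U N ⟶ (Scheme.Modules.pullback f).obj (tilde M)) [Epi φ]
    (π : R ⟶ S) (σ : Spec S ⟶ U) (hσ : σ ≫ f = Spec.map π) :
    ∃ t : Fin N → ((ModuleCat.extendScalars.{u, u, u} π.hom).obj M),
      Submodule.span S (Set.range t) = ⊤ := by
  let ψ₁ := (Scheme.Modules.pullback σ).map φ
  haveI : Epi ψ₁ := inferInstance
  let e₁ := Groth.Agent.Lib.Helper16.RS.pullbackFreeModIso σ N
  let e₂ := (Scheme.Modules.pullbackComp σ f).app (tilde M)
  let e₃ := (Scheme.Modules.pullbackCongr hσ).app (tilde M)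
  let e₄ := (Groth.Agent.S2265.leftIso π).app M
  let ψ : (tilde.functor S).obj (ModuleCat.of S (ULift.{u} (Fin N) →₀ S)) ⟶
      (tilde.functor S).obj ((ModuleCat.extendScalars.{u, u, u} π.hom).obj M) :=
    (freeModTildeIso S N).hom ≫ e₁.inv ≫ ψ₁ ≫ e₂.hom ≫ e₃.hom ≫ e₄.hom
  haveI : Epi ψ := by
    dsimp only [ψ]
    infer_instance
  let h := (tilde.functor S).preimage ψ
  haveI : Epi h := by
    apply Functor.epi_of_epi_map (tilde.functor S)
    rw [Functor.map_preimage]
    infer_instance
  have hsurj : Function.Surjective h.hom := (ModuleCat.epi_iff_surjective h).1 inferInstance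
  refine ⟨fun i => h.hom (Finsupp.single ⟨i⟩ 1), ?_⟩
  rw [eq_top_iff]
  intro q _
  obtain ⟨x, rfl⟩ := hsurj q
  induction x using Finsupp.induction_linear with
  | zero => rw [map_zero]; exact Submodule.zero_mem _
  | add a b ha hb => rw [map_add]; exact Submodule.add_mem _ (ha trivial) (hb trivial)
  | single i a =>
    have : (Finsupp.single i a : ULift.{u} (Fin N) →₀ S) = a • Finsupp.single i 1 := by
      rw [Finsupp.smul_single, smul_eq_mul, mul_one]
    rw [this, map_smul]
    exact Submodule.smul_mem _ _ (Submodule.subset_span ⟨i.down, rfl⟩)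

/-- Generators modulo the vanishing ideal of a closed set contained in the image of an immersion over
which `f` has a section. -/
theorem exists_gens_mod_vanishingIdeal {R : CommRingCat.{u}} (M : ModuleCat.{u} R) {U : Scheme.{u}}
    (f : U ⟶ Spec R) (N : ℕ)
    (φ : FlatMod.freeMod U N ⟶ (Scheme.Modules.pullback f).obj (tilde M)) [Epi φ]
    {T : Scheme.{u}} (g : T ⟶ Spec R) (s : T ⟶ U) [IsImmersion g] (hsg : s ≫ f = g)
    (K : Set (PrimeSpectrum R)) (hK : IsClosed K) (hKg : K ⊆ Set.range (fun t : T => g t)) :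
    ∃ m : Fin N → M, ∀ x : M, ∃ y ∈ Submodule.span R (Set.range m),
      x - y ∈ (PrimeSpectrum.vanishingIdeal K) • (⊤ : Submodule R M) := by
  set J := PrimeSpectrum.vanishingIdeal K with hJ
  let S : CommRingCat.{u} := CommRingCat.of (R ⧸ J)
  let π : R ⟶ S := CommRingCat.ofHom (Ideal.Quotient.mk J)
  have hrad : J.IsRadical := PrimeSpectrum.isRadical_vanishingIdeal K
  haveI : IsReduced (R ⧸ J) := (Ideal.isRadical_iff_quotient_reduced J).1 hrad
  haveI : IsReduced (Spec S) := inferInstance
  let p := pullback.snd g (Spec.map π)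
  have hrange : ∀ z : ↥(Spec S), (Spec.map π) z ∈ Set.range (fun t : T => g t) := by
    intro z
    apply hKg
    have h1 : (Spec.map π) z ∈ PrimeSpectrum.zeroLocus (J : Set R) := by
      intro r hr
      change r ∈ ((Spec.map π) z).asIdeal
      change (Ideal.Quotient.mk J) r ∈ z.asIdeal
      rw [Ideal.Quotient.eq_zero_iff_mem.2 hr]
      exact z.asIdeal.zero_mem
    rw [hJ, PrimeSpectrum.zeroLocus_vanishingIdeal_eq_closure, hK.closure_eq] at h1
    exact h1
  haveI : Surjective p := by
    rw [surjective_iff, ← Set.range_eq_univ]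
    have := Scheme.Pullback.range_snd g (Spec.map π)
    rw [Set.eq_univ_iff_forall]
    intro z
    rw [this]
    exact hrange z
  haveI : IsClosedImmersion p := by
    refine IsClosedImmersion.of_isPreimmersion p ?_
    have : Set.range p = Set.univ := by
      rw [Set.range_eq_univ]
      exact p.surjective
    rw [this]
    exact isClosed_univ
  haveI : IsIso p := isIso_of_isClosedImmersion_of_surjective p
  let σ : Spec S ⟶ U := inv p ≫ pullback.fst g (Spec.map π) ≫ s
  have hσ : σ ≫ f = Spec.map π := by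
    dsimp only [σ]
    rw [Category.assoc, Category.assoc, hsg, pullback.condition, IsIso.inv_hom_id_assoc]
  obtain ⟨t, ht⟩ := exists_gens_of_section M f N φ π σ hσ
  letI : Algebra R (R ⧸ J) := (Ideal.Quotient.mk J).toAlgebra
  have hsurj : Function.Surjective (algebraMap R (R ⧸ J)) := Ideal.Quotient.mk_surjective
  obtain ⟨m, hm⟩ := exists_gens_mod_ker (R := R) (S := R ⧸ J) hsurj M N t ht
  have hker : RingHom.ker (algebraMap R (R ⧸ J)) = J := Ideal.mk_ker
  rw [hker] at hm
  exact ⟨m, hm⟩

end Groth.Agent.Lib.Helper23.Nis
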