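import Mathlib

/-!
# Topological lemmas on constructible sets for refining Nisnevich flags (helper23)
-/

set_option autoImplicit false

namespace Groth.Agent.Lib.Helper23.Nis

open Set Topology

variable {X : Type*} [TopologicalSpace X]

/-- In a quasi-compact quasi-separated space with a basis of compact opens, constructible sets are
compact. -/
theorem isCompact_of_isConstructible [CompactSpace X] [QuasiSeparatedSpace X] [PrespectralSpace X]
    {s : Set X} (hs : IsConstructible s) : IsCompact s := by
  haveI : Nonempty {U : Set X // IsOpen U ∧ IsCompact U} := ⟨⟨∅, isOpen_empty, isCompact_empty⟩⟩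
  have hbasis : TopologicalSpace.IsTopologicalBasis
      (range (Subtype.val : {U : Set X // IsOpen U ∧ IsCompact U} → Set X)) := by
    rw [Subtype.range_coe]
    exact PrespectralSpace.isTopologicalBasis
  refine IsConstructible.induction_of_isTopologicalBasis
    (P := fun s _ => IsCompact s)
    (Subtype.val : {U : Set X // IsOpen U ∧ IsCompact U} → Set X) hbasis (fun i => i.2.2)
    ?_ ?_ s hs
  · intro i t ht
    exact i.2.2.diff (isOpen_biUnion fun j _ => j.2.1)
  · intro s _ t _ hs' ht'
    exact hs'.union ht'

/-- The image of a constructible set under a topological embedding with constructible range is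
constructible. -/
theorem isConstructible_image_of_isEmbedding [CompactSpace X] [QuasiSeparatedSpace X]
    [PrespectralSpace X] {T : Type*} [TopologicalSpace T] {e : T → X} (he : IsEmbedding e)
    (hW : IsConstructible (range e)) {C : Set T} (hC : IsConstructible C) :
    IsConstructible (e '' C) := by
  haveI : CompactSpace T := by
    refine ⟨?_⟩
    rw [he.isCompact_iff, image_univ]
    exact isCompact_of_isConstructible hW
  induction hC using IsConstructible.empty_union_induction with
  | open_retrocompact U hUopen hUcomp =>
    have hUc : IsCompact U := hUcomp.isCompact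
    obtain ⟨O, hO, rfl⟩ := he.isInducing.isOpen_iff.1 hUopen
    have hsub : e '' (e ⁻¹' O) ⊆ O := image_preimage_subset e O
    obtain ⟨W, hWc, hWo, h1, h2⟩ :=
      PrespectralSpace.exists_isCompact_and_isOpen_between (hUc.image he.continuous) hO hsub
    have : e '' (e ⁻¹' O) = range e ∩ W := by
      apply subset_antisymm
      · intro x hx
        exact ⟨image_subset_range _ _ hx, h1 hx⟩
      · rintro x ⟨⟨t, rfl⟩, hxW⟩
        exact ⟨t, h2 hxW, rfl⟩
    rw [this]
    exact hW.inter (hWc.isConstructible hWo)
  | union s hs t ht hs' ht' => rw [image_union]; exact hs'.union ht'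
  | compl s hs hs' =>
    rw [← range_sdiff_image he.injective]
    exact hW.sdiff hs'

/-- If `e` is an embedding with range `B \ A` (`A ⊆ B` closed) then `A ∪ e '' C` is closed for closed `C`. -/
theorem isClosed_union_image {T : Type*} [TopologicalSpace T] {e : T → X} (he : IsEmbedding e)
    {A B : Set X} (hA : IsClosed A) (hB : IsClosed B) (hr : range e = B \ A)
    {C : Set T} (hC : IsClosed C) : IsClosed (A ∪ e '' C) := by
  obtain ⟨D, hD, rfl⟩ := he.isInducing.isClosed_iff.1 hC
  have : A ∪ e '' (e ⁻¹' D) = A ∪ (D ∩ B) := by
    rw [image_preimage_eq_inter_range, hr]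
    ext x
    by_cases hx : x ∈ A <;> simp [hx]
  rw [this]
  exact hA.union (hD.inter hB)

end Groth.Agent.Lib.Helper23.Nis
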