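import Mathlib
import Groth.Prelude.Def_W4c5algebraiztannakaNis
import Groth.Agent.Lib.Helper23.Nis.Top

/-!
# Composition of Nisnevich covers of bounded length (helper23)
-/

set_option autoImplicit false

namespace Groth.Agent.Lib.Helper23.Nis

open CategoryTheory AlgebraicGeometry Set Topology W4c5algebraiztannaka

universe u

/-- `ℕ`-indexed reformulation of `IsNisCoverLen`. -/
theorem isNisCoverLen_iff_nat {U Y : Scheme.{u}} (f : U ⟶ Y) (m : ℕ) :
    IsNisCoverLen f m ↔ Etale f ∧ ∃ Z : ℕ → Set Y, Z 0 = ∅ ∧ Z m = univ ∧ (∀ n, Z n ⊆ Z (n + 1)) ∧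
      (∀ n, IsClosed (Z n) ∧ IsConstructible (Z n)) ∧
      ∀ n, n < m → HasSectOver f (Z (n + 1) \ Z n) := by
  constructor
  · rintro ⟨het, Z, h0, hm, hmono, hcc, hsec⟩
    refine ⟨het, fun n => Z ⟨min n m, Nat.lt_succ_of_le (min_le_right n m)⟩, ?_, ?_, ?_, ?_, ?_⟩
    · have : (⟨min 0 m, Nat.lt_succ_of_le (min_le_right 0 m)⟩ : Fin (m + 1)) = 0 := by
        apply Fin.ext; simp
      simp only [this, h0]
    · have : (⟨min m m, Nat.lt_succ_of_le (min_le_right m m)⟩ : Fin (m + 1)) = Fin.last m := by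
        apply Fin.ext; simp
      simp only [this, hm]
    · intro n
      apply hmono
      rw [Fin.le_def]
      exact min_le_min_right m (Nat.le_succ n)
    · intro n
      exact hcc _
    · intro n hn
      have h1 : (⟨min (n + 1) m, Nat.lt_succ_of_le (min_le_right (n + 1) m)⟩ : Fin (m + 1)) =
          (⟨n, hn⟩ : Fin m).succ := by
        apply Fin.ext
        simp only [Fin.succ_mk]
        exact min_eq_left hn
      have h2 : (⟨min n m, Nat.lt_succ_of_le (min_le_right n m)⟩ : Fin (m + 1)) =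
          (⟨n, hn⟩ : Fin m).castSucc := by
        apply Fin.ext
        simp only [Fin.castSucc_mk]
        exact min_eq_left hn.le
      show HasSectOver f (Z _ \ Z _)
      rw [h1, h2]
      exact hsec ⟨n, hn⟩
  · rintro ⟨het, Z, h0, hm, hmono, hcc, hsec⟩
    refine ⟨het, fun k => Z k.val, ?_, ?_, ?_, ?_, ?_⟩
    · simpa using h0
    · simpa using hm
    · intro a b hab
      exact monotone_nat_of_le_succ hmono (Fin.le_def.1 hab)
    · intro k
      exact hcc _
    · intro k
      simpa using hsec k.val k.isLt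

/-- The stratum data: the refined closed set `Z' ∪ g '' (s ⁻¹' Z)`. -/
theorem strata_hasSectOver {Y₁ Y₂ Y₃ T T' : Scheme.{u}} (g₁ : Y₁ ⟶ Y₂) (g₂ : Y₂ ⟶ Y₃)
    (g : T ⟶ Y₃) (s : T ⟶ Y₂) [IsImmersion g] (hsg : s ≫ g₂ = g)
    (g' : T' ⟶ Y₂) (σ : T' ⟶ Y₁) [IsImmersion g'] (hσ : σ ≫ g₁ = g')
    {A : Set Y₃} (hA : Disjoint A (Set.range (fun t : T => g t)))
    {B C : Set Y₂} (hBC : B ⊆ C) (hr : Set.range (fun t : T' => g' t) = C \ B) :
    HasSectOver (g₁ ≫ g₂)
      ((A ∪ (fun t : T => g t) '' ((fun t : T => s t) ⁻¹' C)) \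
        (A ∪ (fun t : T => g t) '' ((fun t : T => s t) ⁻¹' B))) := by
  refine ⟨Limits.pullback s g', Limits.pullback.fst s g' ≫ g, Limits.pullback.snd s g' ≫ σ,
    inferInstance, ?_, ?_⟩
  · have h1 : (fun t : ↥(Limits.pullback s g') => (Limits.pullback.fst s g' ≫ g) t) =
        (fun x : T => g x) ∘ (fun t : ↥(Limits.pullback s g') => Limits.pullback.fst s g' t) := by
      funext t
      exact Scheme.Hom.comp_apply _ _ _
    have h2 : Set.range (fun t : ↥(Limits.pullback s g') => Limits.pullback.fst s g' t) =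
        (fun t : T => s t) ⁻¹' (C \ B) := by
      rw [← hr]
      exact Scheme.Pullback.range_fst s g'
    rw [h1, Set.range_comp, h2]
    have hinj : Function.Injective (fun t : T => g t) := g.isEmbedding.injective
    ext y
    constructor
    · rintro ⟨t, ⟨htC, htB⟩, rfl⟩
      refine ⟨Or.inr ⟨t, htC, rfl⟩, ?_⟩
      rintro (hyA | ⟨t', ht'B, ht'⟩)
      · exact Set.disjoint_left.1 hA hyA ⟨t, rfl⟩
      · rw [hinj ht'] at ht'B
        exact htB ht'B
    · rintro ⟨hyA | ⟨t, htC, rfl⟩, hy2⟩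
      · exact absurd (Or.inl hyA) hy2
      · refine ⟨t, ⟨htC, fun htB => hy2 (Or.inr ⟨t, htB, rfl⟩)⟩, rfl⟩
  · rw [Category.assoc, ← Category.assoc σ, hσ, ← Limits.pullback.condition_assoc, hsg]

theorem isNisCoverLen_comp {Y₁ Y₂ Y₃ : Scheme.{u}} (g₁ : Y₁ ⟶ Y₂) (g₂ : Y₂ ⟶ Y₃)
    [CompactSpace Y₃] [QuasiSeparatedSpace Y₃] (m₁ m₂ : ℕ)
    (h₁ : IsNisCoverLen g₁ m₁) (h₂ : IsNisCoverLen g₂ m₂) :
    IsNisCoverLen (g₁ ≫ g₂) (m₁ * m₂) := by
  rw [isNisCoverLen_iff_nat] at h₁ h₂ ⊢
  obtain ⟨het₁, Z, hZ0, hZm, hZmono, hZcc, hZsec⟩ := h₁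
  obtain ⟨het₂, Z', hZ'0, hZ'm, hZ'mono, hZ'cc, hZ'sec⟩ := h₂
  haveI := het₁
  haveI := het₂
  refine ⟨inferInstance, ?_⟩
  have hZmon : Monotone Z := monotone_nat_of_le_succ hZmono
  have hZ'mon : Monotone Z' := monotone_nat_of_le_succ hZ'mono
  rcases Nat.eq_zero_or_pos m₁ with rfl | hm₁
  · -- `Y₂` is empty
    have hY₂ : IsEmpty Y₂ := by
      rw [← not_nonempty_iff]
      rintro ⟨y⟩
      have : y ∈ (univ : Set Y₂) := trivial
      rw [← hZm, hZ0] at this
      exact this
    have hconst : ∀ n, n ≤ m₂ → Z' n = ∅ := by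
      intro n
      induction n with
      | zero => intro _; exact hZ'0
      | succ n ih =>
        intro hn
        have hn' : n < m₂ := hn
        obtain ⟨T, g, s, hg, hr, hsg⟩ := hZ'sec n hn'
        have hT : IsEmpty T := ⟨fun t => hY₂.false (s t)⟩
        have h3 : Z' (n + 1) \ Z' n = ∅ := by
          rw [← hr]
          exact Set.range_eq_empty _
        rw [ih hn'.le, diff_empty] at h3
        exact h3
    refine ⟨fun _ => ∅, rfl, ?_, fun _ => subset_rfl,
      fun _ => ⟨isClosed_empty, IsConstructible.empty⟩, ?_⟩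
    · rw [← hZ'm, hconst m₂ le_rfl]
    · intro n hn
      simp at hn
  · -- main case
    have hdata : ∀ k : ℕ, ∃ (T : Scheme.{u}) (g : T ⟶ Y₃) (s : T ⟶ Y₂),
        k < m₂ → IsImmersion g ∧ Set.range (fun t : T => g t) = Z' (k + 1) \ Z' k ∧
          s ≫ g₂ = g := by
      intro k
      by_cases hk : k < m₂
      · obtain ⟨T, g, s, h⟩ := hZ'sec k hk
        exact ⟨T, g, s, fun _ => h⟩
      · exact ⟨Y₂, g₂, 𝟙 _, fun h => absurd h hk⟩
    choose T g s hTgs using hdata
    have hdata' : ∀ j : ℕ, ∃ (T' : Scheme.{u}) (g' : T' ⟶ Y₂) (σ : T' ⟶ Y₁),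
        j < m₁ → IsImmersion g' ∧ Set.range (fun t : T' => g' t) = Z (j + 1) \ Z j ∧
          σ ≫ g₁ = g' := by
      intro j
      by_cases hj : j < m₁
      · obtain ⟨T', g', σ, h⟩ := hZsec j hj
        exact ⟨T', g', σ, fun _ => h⟩
      · exact ⟨Y₁, g₁, 𝟙 _, fun h => absurd h hj⟩
    choose T' g' σ hT' using hdata'
    let G : ℕ → ℕ → Set Y₃ := fun k j =>
      Z' k ∪ (fun t : T k => g k t) '' ((fun t : T k => s k t) ⁻¹' Z j)
    have hG0 : ∀ k, G k 0 = Z' k := by
      intro k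
      simp only [G, hZ0, preimage_empty, image_empty, union_empty]
    have hGm : ∀ k, k < m₂ → G k m₁ = Z' (k + 1) := by
      intro k hk
      obtain ⟨-, hr, -⟩ := hTgs k hk
      simp only [G, hZm, preimage_univ, image_univ]
      rw [hr]
      exact union_diff_cancel (hZ'mono k)
    have hGcc : ∀ k, k < m₂ → ∀ j, IsClosed (G k j) ∧ IsConstructible (G k j) := by
      intro k hk j
      obtain ⟨hI, hr, -⟩ := hTgs k hk
      haveI := hI
      have he : IsEmbedding (fun t : T k => g k t) := (g k).isEmbedding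
      refine ⟨isClosed_union_image he (hZ'cc k).1 (hZ'cc (k + 1)).1 hr
        ((hZcc j).1.preimage (s k).continuous), (hZ'cc k).2.union ?_⟩
      refine isConstructible_image_of_isEmbedding he ?_ ?_
      · rw [hr]
        exact (hZ'cc (k + 1)).2.sdiff (hZ'cc k).2
      · exact Scheme.Hom.isConstructible_preimage (s k) (hZcc j).2
    have hGmono : ∀ k j, G k j ⊆ G k (j + 1) := by
      intro k j
      exact union_subset_union_right _ (image_mono (preimage_mono (hZmono j)))
    have hGsec : ∀ k, k < m₂ → ∀ j, j < m₁ →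
        HasSectOver (g₁ ≫ g₂) (G k (j + 1) \ G k j) := by
      intro k hk j hj
      obtain ⟨hI, hr, hsg⟩ := hTgs k hk
      obtain ⟨hI', hr', hσ⟩ := hT' j hj
      haveI := hI
      haveI := hI'
      refine strata_hasSectOver g₁ g₂ (g k) (s k) hsg (g' j) (σ j) hσ ?_ (hZmono j) hr'
      rw [hr]
      exact disjoint_sdiff_right
    let F : ℕ → Set Y₃ := fun n => if n / m₁ < m₂ then G (n / m₁) (n % m₁) else univ
    -- key evaluation
    have hkey : ∀ n, n < m₁ * m₂ → n / m₁ < m₂ ∧ n % m₁ < m₁ ∧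
        F n = G (n / m₁) (n % m₁) ∧ F (n + 1) = G (n / m₁) (n % m₁ + 1) := by
      intro n hn
      have hk : n / m₁ < m₂ := Nat.div_lt_of_lt_mul hn
      have hj : n % m₁ < m₁ := Nat.mod_lt _ hm₁
      refine ⟨hk, hj, if_pos hk, ?_⟩
      have hdm : n % m₁ + m₁ * (n / m₁) = n := Nat.mod_add_div n m₁
      rcases Nat.lt_or_ge (n % m₁ + 1) m₁ with hlt | hge
      · have h4 : (n + 1) / m₁ = n / m₁ ∧ (n + 1) % m₁ = n % m₁ + 1 := by
          rw [Nat.div_mod_unique hm₁]
          exact ⟨by omega, hlt⟩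
        simp only [F]
        rw [h4.1, h4.2, if_pos hk]
      · have heq : n % m₁ + 1 = m₁ := le_antisymm hj hge
        have h4 : (n + 1) / m₁ = n / m₁ + 1 ∧ (n + 1) % m₁ = 0 := by
          rw [Nat.div_mod_unique hm₁]
          refine ⟨?_, hm₁⟩
          rw [Nat.mul_succ]
          omega
        simp only [F]
        rw [h4.1, h4.2, heq, hGm _ hk]
        split_ifs with h5
        · exact hG0 _
        · have : n / m₁ + 1 = m₂ := le_antisymm hk (not_lt.1 h5)
          rw [this, hZ'm]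
    refine ⟨F, ?_, ?_, ?_, ?_, ?_⟩
    · simp only [F]
      split_ifs with h5
      · rw [Nat.zero_mod, Nat.zero_div, hG0, hZ'0]
      · rw [Nat.zero_div, not_lt, Nat.le_zero] at h5
        rw [← hZ'm, h5, hZ'0]
    · simp only [F]
      rw [Nat.mul_div_cancel_left m₂ hm₁, if_neg (lt_irrefl _)]
    · intro n
      rcases Nat.lt_or_ge n (m₁ * m₂) with hn | hn
      · obtain ⟨-, -, e1, e2⟩ := hkey n hn
        rw [e1, e2]
        exact hGmono _ _
      · have : ¬ (n + 1) / m₁ < m₂ := by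
          rw [not_lt, Nat.le_div_iff_mul_le hm₁]
          rw [Nat.mul_comm]
          exact hn.trans (Nat.le_succ n)
        simp only [F]
        rw [if_neg this]
        exact subset_univ _
    · intro n
      simp only [F]
      split_ifs with h5
      · exact hGcc _ h5 _
      · exact ⟨isClosed_univ, IsConstructible.univ⟩
    · intro n hn
      obtain ⟨hk, hj, e1, e2⟩ := hkey n hn
      rw [e1, e2]
      exact hGsec _ hk _ hj

end Groth.Agent.Lib.Helper23.Nis
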