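import Mathlib
import Groth.Agent.Lib.Helper23.Nis.Comp
import Groth.Agent.Lib.Helper23.Nis.Gen

/-!
# Number of generators along a Nisnevich cover of bounded length (helper23)
-/

set_option autoImplicit false

namespace Groth.Agent.Lib.Helper23.Nis

open CategoryTheory CategoryTheory.Limits AlgebraicGeometry W4c5algebraiztannaka

universe u

theorem exists_generators_of_isNisCoverLen (R : CommRingCat.{u}) (M : ModuleCat.{u} R)
    [Module.Finite R M] {U : Scheme.{u}} (f : U ⟶ Spec R) (m N : ℕ) (hf : IsNisCoverLen f m)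
    (φ : FlatMod.freeMod U N ⟶ (Scheme.Modules.pullback f).obj (tilde M)) [Epi φ] :
    ∃ s : Fin (N * m) → M, Submodule.span R (Set.range s) = ⊤ := by
  rw [isNisCoverLen_iff_nat] at hf
  obtain ⟨-, Z, hZ0, hZm, hZmono, hZcc, hZsec⟩ := hf
  have key : ∀ k, k ≤ m → ∃ t : Fin (N * k) → M,
      Module.support R (M ⧸ Submodule.span R (Set.range t)) ∩
        (Z k : Set (PrimeSpectrum R)) = ∅ := by
    intro k
    induction k with
    | zero =>
      intro _
      refine ⟨fun _ => 0, ?_⟩
      rw [hZ0]
      exact Set.inter_empty _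
    | succ k ih =>
      intro hk
      obtain ⟨t, ht⟩ := ih (Nat.le_of_succ_le hk)
      obtain ⟨T, g, s, hg, hr, hsg⟩ := hZsec k hk
      haveI := hg
      let K : Set (PrimeSpectrum R) :=
        Module.support R (M ⧸ Submodule.span R (Set.range t)) ∩ (Z (k + 1) : Set (PrimeSpectrum R))
      have hKclosed : IsClosed K := Module.isClosed_support.inter (hZcc (k + 1)).1
      have hKsub : K ⊆ Set.range (fun t : T => g t) := by
        rintro p ⟨hp1, hp2⟩
        have hp : p ∈ Z (k + 1) \ Z k :=
          ⟨hp2, fun hp3 => (Set.eq_empty_iff_forall_notMem.1 ht p) ⟨hp1, hp3⟩⟩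
        exact (Set.ext_iff.1 hr p).2 hp
      obtain ⟨m', hm'⟩ := exists_gens_mod_vanishingIdeal M f N φ g s hsg K hKclosed hKsub
      let ε : Fin (N * (k + 1)) ≃ Fin (N * k) ⊕ Fin N :=
        (finCongr (Nat.mul_succ N k)).trans finSumFinEquiv.symm
      let t' : Fin (N * (k + 1)) → M := Sum.elim t m' ∘ ε
      have hrange : Set.range t' = Set.range t ∪ Set.range m' := by
        rw [Set.range_comp, Set.range_eq_univ.2 ε.surjective, Set.image_univ, Set.Sum.elim_range]
      refine ⟨t', ?_⟩
      refine support_inter_eq_empty_step (Submodule.span R (Set.range t))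
        (Submodule.span R (Set.range t')) ?_ _ (PrimeSpectrum.vanishingIdeal K) ?_ ?_
      · rw [hrange]
        exact Submodule.span_mono Set.subset_union_left
      · intro p hp
        intro r hr
        exact (PrimeSpectrum.mem_vanishingIdeal _ _).1 hr p hp
      · intro x
        obtain ⟨y, hy, hxy⟩ := hm' x
        refine ⟨y, ?_, hxy⟩
        rw [hrange]
        exact Submodule.span_mono Set.subset_union_right hy
  obtain ⟨t, ht⟩ := key m le_rfl
  refine ⟨t, ?_⟩
  have h3 : Module.support R (M ⧸ Submodule.span R (Set.range t)) = ∅ := by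
    rw [Set.eq_empty_iff_forall_notMem]
    intro p hp
    have hpZ : p ∈ Z m := (Set.ext_iff.1 hZm p).2 (Set.mem_univ _)
    exact (Set.eq_empty_iff_forall_notMem.1 ht p) ⟨hp, hpZ⟩
  rw [Module.support_eq_empty_iff, Submodule.Quotient.subsingleton_iff] at h3
  exact h3

end Groth.Agent.Lib.Helper23.Nis
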